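import Cfsg.Agent.S3506
import Cfsg.Agent.H434.Cov.AltEvenCore
import Cfsg.Agent.H434.Cov.AltEvenNine

/-!
# `NoTwo (A_n)` for `n ≥ 10` even (helper434, S2499, COV-ALT-EVEN)
-/

set_option autoImplicit false

namespace Cfsg.Agent.H434.Cov

open Cfsg.Agent.H278.Cov

theorem two3506 : Two3506 := fun hp ha g k l h1 h2 h3 h4 w1 w2 h5 h6 h7 =>
  Cfsg.Agent.S3506.result hp ha g k l h1 h2 h3 h4 w1 w2 h5 h6 h7

/-- **COV-ALT-EVEN**: `A_n`, `n ≥ 10` even, is not the union of the conjugates of two proper subgroups. -/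
theorem noTwo_alt_even {n : ℕ} (hn : Even n) (h10 : 10 ≤ n) : NoTwo ↥(alternatingGroup (Fin n)) := by
  by_cases h14 : 14 ≤ n
  · exact noTwo_big two3506 hn h14
  · obtain ⟨m, rfl⟩ := hn
    have : m = 5 ∨ m = 6 := by omega
    rcases this with rfl | rfl
    · exact noTwo_ten two3506
    · exact noTwo_twelve two3506 card_660 mathieu_nine

end Cfsg.Agent.H434.Cov
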